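import Cfsg.Agent.Lib.Helper21.TS.Defs

/-!
# Project TS (S5666): basic API for `bf`, `opm`, `tvm`, `Iso`, `ten`, `XAm`
-/

set_option autoImplicit false
set_option linter.unusedSectionVars false

namespace Cfsg.Agent.Lib.Helper21.TS

open Matrix
open scoped Kronecker
open Cfsg.Agent.Lib.helper7.TP

variable {ι : Type*} [Fintype ι] [DecidableEq ι] {a b : ℕ} {F : Type*} [Field F]

/-! ## `bf` -/

theorem bf_add_left (J : Matrix ι ι F) (x x' y : ι → F) : bf J (x + x') y = bf J x y + bf J x' y := by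
  simp only [bf, add_dotProduct]

theorem bf_add_right (J : Matrix ι ι F) (x y y' : ι → F) : bf J x (y + y') = bf J x y + bf J x y' := by
  simp only [bf, Matrix.mulVec_add, dotProduct_add]

theorem bf_smul_left (J : Matrix ι ι F) (c : F) (x y : ι → F) : bf J (c • x) y = c * bf J x y := by
  simp only [bf, smul_dotProduct, smul_eq_mul]

theorem bf_smul_right (J : Matrix ι ι F) (c : F) (x y : ι → F) : bf J x (c • y) = c * bf J x y := by
  simp only [bf, Matrix.mulVec_smul, dotProduct_smul, smul_eq_mul]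

theorem bf_zero_left (J : Matrix ι ι F) (y : ι → F) : bf J 0 y = 0 := by
  simp only [bf, zero_dotProduct]

theorem bf_zero_right (J : Matrix ι ι F) (x : ι → F) : bf J x 0 = 0 := by
  simp only [bf, Matrix.mulVec_zero, dotProduct_zero]

theorem bf_neg_left (J : Matrix ι ι F) (x y : ι → F) : bf J (-x) y = -bf J x y := by
  simp only [bf, neg_dotProduct]

theorem bf_neg_right (J : Matrix ι ι F) (x y : ι → F) : bf J x (-y) = -bf J x y := by
  simp only [bf, Matrix.mulVec_neg, dotProduct_neg]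

theorem bf_sub_left (J : Matrix ι ι F) (x x' y : ι → F) : bf J (x - x') y = bf J x y - bf J x' y := by
  simp only [bf, sub_dotProduct]

theorem bf_sub_right (J : Matrix ι ι F) (x y y' : ι → F) : bf J x (y - y') = bf J x y - bf J x y' := by
  simp only [bf, Matrix.mulVec_sub, dotProduct_sub]

theorem bf_sum_right {κ : Type*} (J : Matrix ι ι F) (x : ι → F) (s : Finset κ) (y : κ → ι → F) :
    bf J x (∑ k ∈ s, y k) = ∑ k ∈ s, bf J x (y k) := by
  classical
  induction s using Finset.induction_on with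
  | empty => simp [bf_zero_right]
  | insert k s hk ih => rw [Finset.sum_insert hk, Finset.sum_insert hk, bf_add_right, ih]

theorem bf_sum_left {κ : Type*} (J : Matrix ι ι F) (y : ι → F) (s : Finset κ) (x : κ → ι → F) :
    bf J (∑ k ∈ s, x k) y = ∑ k ∈ s, bf J (x k) y := by
  classical
  induction s using Finset.induction_on with
  | empty => simp [bf_zero_left]
  | insert k s hk ih => rw [Finset.sum_insert hk, Finset.sum_insert hk, bf_add_left, ih]

theorem bf_transpose (J : Matrix ι ι F) (x y : ι → F) : bf Jᵀ x y = bf J y x := by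
  simp only [bf]
  rw [Matrix.mulVec_transpose, dotProduct_comm, Matrix.dotProduct_mulVec]

theorem bf_symm {J : Matrix ι ι F} (h : Jᵀ = J) (x y : ι → F) : bf J x y = bf J y x := by
  rw [← bf_transpose, h]

theorem bf_alt {J : Matrix ι ι F} (h : Jᵀ = -J) (x y : ι → F) : bf J x y = -bf J y x := by
  rw [← bf_transpose J y x, h]
  simp only [bf, Matrix.neg_mulVec, dotProduct_neg]

theorem bf_self_alt {J : Matrix ι ι F} (h : Jᵀ = -J) (two : (2 : F) ≠ 0) (x : ι → F) : bf J x x = 0 := by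
  have h1 := bf_alt h x x
  have h2 : (2 : F) * bf J x x = 0 := by linear_combination h1
  rcases mul_eq_zero.mp h2 with h3 | h3
  · exact (two h3).elim
  · exact h3

theorem bf_mulVec_left (J g : Matrix ι ι F) (x y : ι → F) : bf J (g *ᵥ x) y = bf (gᵀ * J) x y := by
  simp only [bf]
  rw [← Matrix.mulVec_mulVec, Matrix.dotProduct_mulVec, Matrix.dotProduct_mulVec,
    Matrix.dotProduct_mulVec, Matrix.vecMul_vecMul, ← Matrix.vecMul_vecMul, Matrix.vecMul_transpose]

theorem bf_mulVec_right (J g : Matrix ι ι F) (x y : ι → F) : bf J x (g *ᵥ y) = bf (J * g) x y := by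
  simp only [bf, Matrix.mulVec_mulVec]

theorem bf_single (J : Matrix ι ι F) (i j : ι) : bf J (Pi.single i 1) (Pi.single j 1) = J i j := by
  simp only [bf]
  rw [Matrix.mulVec_single_one, single_one_dotProduct]
  rfl

theorem bf_ext {J J' : Matrix ι ι F} (h : ∀ x y, bf J x y = bf J' x y) : J = J' := by
  ext i j
  rw [← bf_single J i j, ← bf_single J' i j, h]

theorem bf_nondeg {J : Matrix ι ι F} (hdet : J.det ≠ 0) {x : ι → F} (hx : x ≠ 0) :
    ∃ y, bf J x y ≠ 0 := by
  by_contra hcon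
  push Not at hcon
  apply hx
  have h1 : x ᵥ* J = 0 := by
    funext j
    have := hcon (Pi.single j 1)
    simp only [bf] at this
    rw [Matrix.dotProduct_mulVec, dotProduct_single_one] at this
    exact this
  have hu : IsUnit J := (Matrix.isUnit_iff_isUnit_det J).mpr (isUnit_iff_ne_zero.mpr hdet)
  obtain ⟨Ju, hJu⟩ := hu
  have h2 : (x ᵥ* J) ᵥ* (↑Ju⁻¹ : Matrix ι ι F) = 0 := by rw [h1, Matrix.zero_vecMul]
  rw [Matrix.vecMul_vecMul, ← hJu, ← Units.val_mul, mul_inv_cancel, Units.val_one, Matrix.vecMul_one] at h2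
  exact h2

theorem bf_nondeg' {J : Matrix ι ι F} (hdet : J.det ≠ 0) {y : ι → F} (hy : y ≠ 0) :
    ∃ x, bf J x y ≠ 0 := by
  have hdet' : Jᵀ.det ≠ 0 := by rw [Matrix.det_transpose]; exact hdet
  obtain ⟨x, hx⟩ := bf_nondeg hdet' hy
  exact ⟨x, by rwa [bf_transpose] at hx⟩

/-! ## `opm`, `tvm` -/

theorem opm_mulVec (J : Matrix ι ι F) (v w x : ι → F) : opm J v w *ᵥ x = bf J w x • v := by
  have hb : bf J w x = ∑ j, (w ᵥ* J) j * x j := by
    simp only [bf]
    rw [Matrix.dotProduct_mulVec]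
    rfl
  funext i
  simp only [opm, Matrix.mulVec, Matrix.vecMulVec_apply, dotProduct, Pi.smul_apply, smul_eq_mul]
  rw [hb, Finset.sum_mul]
  apply Finset.sum_congr rfl
  intro j _
  ring

theorem tvm_mulVec (J : Matrix ι ι F) (v : ι → F) (c : F) (x : ι → F) :
    tvm J v c *ᵥ x = x + (c * bf J v x) • v := by
  rw [tvm, Matrix.add_mulVec, Matrix.one_mulVec, Matrix.smul_mulVec, opm_mulVec, smul_smul]

theorem tvm_zero (J : Matrix ι ι F) (v : ι → F) : tvm J v 0 = 1 := by
  rw [tvm, zero_smul, add_zero]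

theorem tvm_mul (J : Matrix ι ι F) (v : ι → F) (hv : bf J v v = 0) (c c' : F) :
    tvm J v c * tvm J v c' = tvm J v (c + c') := by
  rw [Matrix.ext_iff_mulVec]
  intro x
  rw [← Matrix.mulVec_mulVec, tvm_mulVec, tvm_mulVec, tvm_mulVec, bf_add_right, bf_smul_right, hv,
    mul_zero, add_zero, add_assoc, ← add_smul]
  congr 2
  ring

/-- the transvection as an element of `GL` (for an isotropic centre). -/
noncomputable def tvG (J : Matrix ι ι F) (v : ι → F) (hv : bf J v v = 0) (c : F) :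
    Matrix.GeneralLinearGroup ι F :=
  ⟨tvm J v c, tvm J v (-c), by rw [tvm_mul J v hv, add_neg_cancel, tvm_zero],
    by rw [tvm_mul J v hv, neg_add_cancel, tvm_zero]⟩

@[simp] theorem tvG_coe (J : Matrix ι ι F) (v : ι → F) (hv : bf J v v = 0) (c : F) :
    ((tvG J v hv c : Matrix.GeneralLinearGroup ι F) : Matrix ι ι F) = tvm J v c := rfl

theorem mem_Iso_iff_bf (J : Matrix ι ι F) (g : Matrix.GeneralLinearGroup ι F) :
    g ∈ Iso J ↔ ∀ x y, bf J ((g : Matrix ι ι F) *ᵥ x) ((g : Matrix ι ι F) *ᵥ y) = bf J x y := by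
  rw [mem_Iso]
  constructor
  · intro h x y
    rw [bf_mulVec_left, bf_mulVec_right, h]
  · intro h
    apply bf_ext
    intro x y
    rw [← h x y, bf_mulVec_left, bf_mulVec_right]

theorem tvG_mem_Iso {J : Matrix ι ι F} (hJ : Jᵀ = -J) (v : ι → F) (hv : bf J v v = 0) (c : F) :
    tvG J v hv c ∈ Iso J := by
  rw [mem_Iso_iff_bf]
  intro x y
  rw [tvG_coe, tvm_mulVec, tvm_mulVec, bf_add_left, bf_add_right, bf_add_right, bf_smul_left,
    bf_smul_left, bf_smul_right, bf_smul_right, hv, bf_alt hJ x v]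
  ring

/-- conjugating a transvection by an isometry. -/
theorem tvm_conj {J : Matrix ι ι F} (g : Matrix.GeneralLinearGroup ι F) (hg : g ∈ Iso J) (v : ι → F)
    (c : F) :
    (g : Matrix ι ι F) * tvm J v c * ((g⁻¹ : Matrix.GeneralLinearGroup ι F) : Matrix ι ι F) =
      tvm J ((g : Matrix ι ι F) *ᵥ v) c := by
  rw [Matrix.ext_iff_mulVec]
  intro x
  have hgi : ∀ y, (g : Matrix ι ι F) *ᵥ (((g⁻¹ : Matrix.GeneralLinearGroup ι F) : Matrix ι ι F) *ᵥ y) = y := by
    intro y
    rw [Matrix.mulVec_mulVec, ← Units.val_mul, mul_inv_cancel, Units.val_one, Matrix.one_mulVec]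
  rw [← Matrix.mulVec_mulVec, ← Matrix.mulVec_mulVec, tvm_mulVec, tvm_mulVec, Matrix.mulVec_add,
    Matrix.mulVec_smul, hgi]
  congr 3
  have := (mem_Iso_iff_bf J g).mp hg v (((g⁻¹ : Matrix.GeneralLinearGroup ι F) : Matrix ι ι F) *ᵥ x)
  rw [hgi] at this
  exact this.symm

/-! ## The tensor model -/

theorem bf_JV_ten (J1 : Matrix (Fin a) (Fin a) F) (J2 : Matrix (Fin b) (Fin b) F)
    (u u' : Fin a → F) (w w' : Fin b → F) :
    bf (JV J1 J2) (ten u w) (ten u' w') = bf J1 u u' * bf J2 w w' := by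
  simp only [bf, JV]
  rw [kron_mulVec_ten]
  simp only [dotProduct, ten, Fintype.sum_prod_type]
  rw [Finset.sum_mul_sum]
  apply Finset.sum_congr rfl
  intro i _
  apply Finset.sum_congr rfl
  intro j _
  ring

theorem JV_transpose {J1 : Matrix (Fin a) (Fin a) F} {J2 : Matrix (Fin b) (Fin b) F}
    (h1 : J1ᵀ = -J1) (h2 : J2ᵀ = J2) : (JV J1 J2)ᵀ = -JV J1 J2 := by
  ext ⟨i, j⟩ ⟨i', j'⟩
  have e1 : J1 i' i = -J1 i i' := by
    have := congrFun (congrFun h1 i) i'
    simpa using this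
  have e2 : J2 j' j = J2 j j' := by
    have := congrFun (congrFun h2 j) j'
    simpa using this
  simp only [JV, Matrix.transpose_apply, Matrix.kroneckerMap_apply, Matrix.neg_apply, e1, e2]
  ring

/-- the Kronecker product of two invertible matrices, in `GL`. -/
noncomputable def kronG (α : Matrix.GeneralLinearGroup (Fin a) F) (β : Matrix.GeneralLinearGroup (Fin b) F) :
    Matrix.GeneralLinearGroup (Fin a × Fin b) F :=
  ⟨(α : Matrix (Fin a) (Fin a) F) ⊗ₖ (β : Matrix (Fin b) (Fin b) F),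
    ((α⁻¹ : Matrix.GeneralLinearGroup (Fin a) F) : Matrix (Fin a) (Fin a) F) ⊗ₖ
      ((β⁻¹ : Matrix.GeneralLinearGroup (Fin b) F) : Matrix (Fin b) (Fin b) F),
    by rw [← Matrix.mul_kronecker_mul, ← Units.val_mul, ← Units.val_mul, mul_inv_cancel, mul_inv_cancel,
      Units.val_one, Units.val_one, Matrix.one_kronecker_one],
    by rw [← Matrix.mul_kronecker_mul, ← Units.val_mul, ← Units.val_mul, inv_mul_cancel, inv_mul_cancel,
      Units.val_one, Units.val_one, Matrix.one_kronecker_one]⟩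

@[simp] theorem kronG_coe (α : Matrix.GeneralLinearGroup (Fin a) F) (β : Matrix.GeneralLinearGroup (Fin b) F) :
    ((kronG α β : Matrix.GeneralLinearGroup (Fin a × Fin b) F) :
      Matrix (Fin a × Fin b) (Fin a × Fin b) F) =
      (α : Matrix (Fin a) (Fin a) F) ⊗ₖ (β : Matrix (Fin b) (Fin b) F) := rfl

theorem kronG_mem_K0 (α : Matrix.GeneralLinearGroup (Fin a) F) (β : Matrix.GeneralLinearGroup (Fin b) F) :
    kronG α β ∈ K0 a b F := (mem_K0 _).mpr ⟨α, β, rfl⟩

theorem kronG_mem_SpV {J1 : Matrix (Fin a) (Fin a) F} {J2 : Matrix (Fin b) (Fin b) F}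
    {α : Matrix.GeneralLinearGroup (Fin a) F} {β : Matrix.GeneralLinearGroup (Fin b) F}
    (hα : α ∈ Iso J1) (hβ : β ∈ Iso J2) : kronG α β ∈ SpV J1 J2 := by
  rw [SpV, mem_Iso, kronG_coe, JV, ← Matrix.kroneckerMap_transpose, ← Matrix.mul_kronecker_mul,
    ← Matrix.mul_kronecker_mul, (mem_Iso J1 α).mp hα, (mem_Iso J2 β).mp hβ]

theorem kronG_mem_T0 {J1 : Matrix (Fin a) (Fin a) F} {J2 : Matrix (Fin b) (Fin b) F}
    {α : Matrix.GeneralLinearGroup (Fin a) F} {β : Matrix.GeneralLinearGroup (Fin b) F}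
    (hα : α ∈ Iso J1) (hβ : β ∈ Iso J2) : kronG α β ∈ T0 J1 J2 :=
  Subgroup.mem_inf.mpr ⟨kronG_mem_K0 α β, kronG_mem_SpV hα hβ⟩

theorem kronG_mulVec_ten (α : Matrix.GeneralLinearGroup (Fin a) F) (β : Matrix.GeneralLinearGroup (Fin b) F)
    (u : Fin a → F) (w : Fin b → F) :
    ((kronG α β : Matrix.GeneralLinearGroup (Fin a × Fin b) F) :
      Matrix (Fin a × Fin b) (Fin a × Fin b) F) *ᵥ ten u w =
      ten ((α : Matrix (Fin a) (Fin a) F) *ᵥ u) ((β : Matrix (Fin b) (Fin b) F) *ᵥ w) := by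
  rw [kronG_coe, kron_mulVec_ten]

end Cfsg.Agent.Lib.Helper21.TS
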