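import Cfsg.Agent.Lib.helper7.TP.Defs

/-!
# Project TS (S5666): `Sp_a(q) ⊗ O_b(q)` is maximal in `Sp_ab(q)`, `q` odd — definitions

Standard model (same as project TP): `V = F^(Fin a × Fin b) = A ⊗ B`, `ten u w = u ⊗ w`.
`J1` is the Gram matrix of an alternating form on `A = F^a`, `J2` of a symmetric form on `B = F^b`;
`JV = J1 ⊗ₖ J2` is alternating on `V`.  All forms are `bf J x y = x ⬝ᵥ J *ᵥ y`.
See `PLAN.md` in this folder for the paper proof and `Skel.lean.txt` for the list of pieces.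
-/

set_option autoImplicit false

namespace Cfsg.Agent.Lib.Helper21.TS

open Matrix
open scoped Kronecker
open Cfsg.Agent.Lib.helper7.TP

variable {ι : Type*} [Fintype ι] [DecidableEq ι] {a b : ℕ} {F : Type*} [Field F]

/-! ## Bilinear forms given by a Gram matrix -/

/-- the bilinear form with Gram matrix `J`. -/
def bf (J : Matrix ι ι F) (x y : ι → F) : F := x ⬝ᵥ J *ᵥ y

/-- the rank one operator `x ↦ f(w, x) v`. -/
def opm (J : Matrix ι ι F) (v w : ι → F) : Matrix ι ι F := Matrix.vecMulVec v (w ᵥ* J)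

/-- the transvection matrix `x ↦ x + c f(v, x) v`. -/
def tvm (J : Matrix ι ι F) (v : ι → F) (c : F) : Matrix ι ι F := 1 + c • opm J v v

/-- the isometry group of the form `J`, inside `GL`. -/
def Iso (J : Matrix ι ι F) : Subgroup (Matrix.GeneralLinearGroup ι F) where
  carrier := {g | (g : Matrix ι ι F)ᵀ * J * (g : Matrix ι ι F) = J}
  one_mem' := by simp
  mul_mem' := by
    intro g h hg hh
    simp only [Set.mem_setOf_eq] at hg hh ⊢
    rw [Units.val_mul, Matrix.transpose_mul]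
    calc (h : Matrix ι ι F)ᵀ * (g : Matrix ι ι F)ᵀ * J * ((g : Matrix ι ι F) * (h : Matrix ι ι F))
        = (h : Matrix ι ι F)ᵀ * ((g : Matrix ι ι F)ᵀ * J * (g : Matrix ι ι F)) * (h : Matrix ι ι F) := by
          simp only [Matrix.mul_assoc]
      _ = J := by rw [hg, hh]
  inv_mem' := by
    intro g hg
    simp only [Set.mem_setOf_eq] at hg ⊢
    have h1 : ((g⁻¹ : Matrix.GeneralLinearGroup ι F) : Matrix ι ι F) * (g : Matrix ι ι F) = 1 := by
      rw [← Units.val_mul, inv_mul_cancel, Units.val_one]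
    have h2 : (g : Matrix ι ι F) * ((g⁻¹ : Matrix.GeneralLinearGroup ι F) : Matrix ι ι F) = 1 := by
      rw [← Units.val_mul, mul_inv_cancel, Units.val_one]
    have h3 : (g : Matrix ι ι F)ᵀ * ((g⁻¹ : Matrix.GeneralLinearGroup ι F) : Matrix ι ι F)ᵀ = 1 := by
      rw [← Matrix.transpose_mul, h1, Matrix.transpose_one]
    have h4 : ((g⁻¹ : Matrix.GeneralLinearGroup ι F) : Matrix ι ι F)ᵀ * (g : Matrix ι ι F)ᵀ = 1 := by
      rw [← Matrix.transpose_mul, h2, Matrix.transpose_one]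
    calc ((g⁻¹ : Matrix.GeneralLinearGroup ι F) : Matrix ι ι F)ᵀ * J *
          ((g⁻¹ : Matrix.GeneralLinearGroup ι F) : Matrix ι ι F)
        = ((g⁻¹ : Matrix.GeneralLinearGroup ι F) : Matrix ι ι F)ᵀ *
            ((g : Matrix ι ι F)ᵀ * J * (g : Matrix ι ι F)) *
          ((g⁻¹ : Matrix.GeneralLinearGroup ι F) : Matrix ι ι F) := by rw [hg]
      _ = (((g⁻¹ : Matrix.GeneralLinearGroup ι F) : Matrix ι ι F)ᵀ * (g : Matrix ι ι F)ᵀ) * J *
            ((g : Matrix ι ι F) * ((g⁻¹ : Matrix.GeneralLinearGroup ι F) : Matrix ι ι F)) := by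
          simp only [Matrix.mul_assoc]
      _ = J := by rw [h4, h2, Matrix.one_mul, Matrix.mul_one]

theorem mem_Iso (J : Matrix ι ι F) (g : Matrix.GeneralLinearGroup ι F) :
    g ∈ Iso J ↔ (g : Matrix ι ι F)ᵀ * J * (g : Matrix ι ι F) = J := Iff.rfl

/-- `η` is self-adjoint for the form `J`: `f(η x, y) = f(x, η y)`. -/
def SelfAdj (J η : Matrix ι ι F) : Prop := ηᵀ * J = J * η

/-- `ζ` is skew-adjoint for the form `J`: `f(ζ x, y) = - f(x, ζ y)`. -/
def SkewAdj (J ζ : Matrix ι ι F) : Prop := ζᵀ * J = -(J * ζ)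

/-- "`X ∈ M`" for a matrix `X`. -/
def InM (M : Subgroup (Matrix.GeneralLinearGroup ι F)) (X : Matrix ι ι F) : Prop :=
  ∃ g ∈ M, (g : Matrix ι ι F) = X

/-! ## The tensor model -/

/-- hypotheses on the two Gram matrices. -/
structure Ctx (J1 : Matrix (Fin a) (Fin a) F) (J2 : Matrix (Fin b) (Fin b) F) : Prop where
  two : (2 : F) ≠ 0
  alt : J1ᵀ = -J1
  sym : J2ᵀ = J2
  det1 : J1.det ≠ 0
  det2 : J2.det ≠ 0

/-- the Gram matrix of the tensor product form on `V = A ⊗ B`. -/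
def JV (J1 : Matrix (Fin a) (Fin a) F) (J2 : Matrix (Fin b) (Fin b) F) :
    Matrix (Fin a × Fin b) (Fin a × Fin b) F := J1 ⊗ₖ J2

/-- `Sp(V)`. -/
def SpV (J1 : Matrix (Fin a) (Fin a) F) (J2 : Matrix (Fin b) (Fin b) F) :
    Subgroup (Matrix.GeneralLinearGroup (Fin a × Fin b) F) := Iso (JV J1 J2)

/-- `T0 = (GL_a ⊗ GL_b) ∩ Sp(V)`. -/
def T0 (J1 : Matrix (Fin a) (Fin a) F) (J2 : Matrix (Fin b) (Fin b) F) :
    Subgroup (Matrix.GeneralLinearGroup (Fin a × Fin b) F) := K0 a b F ⊓ SpV J1 J2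

/-- the contraction `φ ⊗ 1 : A ⊗ B → B`. -/
def ctrA (φ : Fin a → F) (v : Fin a × Fin b → F) : Fin b → F := fun j => ∑ i, φ i * v (i, j)

/-- `X_u(η) = 1 + (u u^*) ⊗ η`; it acts as `v ↦ v + u ⊗ η(π_u v)`, `π_u = f₁(u, ·) ⊗ 1`.
It lies in `Sp(V)` when `η` is self-adjoint for `J2`; `X_u(c • 1) = t_u(c) ⊗ 1 ∈ T0`;
`X_u(c • opm J2 w w)` is the transvection `tvm JV (u ⊗ w) c`. -/
def XAm (J1 : Matrix (Fin a) (Fin a) F) (u : Fin a → F) (η : Matrix (Fin b) (Fin b) F) :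
    Matrix (Fin a × Fin b) (Fin a × Fin b) F := 1 + opm J1 u u ⊗ₖ η

/-- `1 + ζ ⊗ (w w^*)`, for `w` singular and `ζ` skew-adjoint for `J1` it lies in `Sp(V)`. -/
def XBm (J2 : Matrix (Fin b) (Fin b) F) (ζ : Matrix (Fin a) (Fin a) F) (w : Fin b → F) :
    Matrix (Fin a × Fin b) (Fin a × Fin b) F := 1 + ζ ⊗ₖ opm J2 w w

/-- the Siegel transformation `ρ_{w,z} : x ↦ x + f(z,x) w - f(w,x) z - ½ f(z,z) f(w,x) w`
(an isometry of the symmetric form `J` when `f(w,w) = 0 = f(w,z)`). -/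
noncomputable def sieg (J : Matrix ι ι F) (w z : ι → F) : Matrix ι ι F :=
  1 + opm J w z - opm J z w - (bf J z z / 2) • opm J w w

/-- `v ∈ TT(M)`: the whole root group `{t_v(c)}` lies in `M`. -/
def TT (J1 : Matrix (Fin a) (Fin a) F) (J2 : Matrix (Fin b) (Fin b) F)
    (M : Subgroup (Matrix.GeneralLinearGroup (Fin a × Fin b) F)) (v : Fin a × Fin b → F) : Prop :=
  ∀ c : F, InM M (tvm (JV J1 J2) v c)

/-- `Λ_u(M)`: the `η`, self-adjoint for `J2`, with `X_u(η) ∈ M`. -/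
def LamU (J1 : Matrix (Fin a) (Fin a) F) (J2 : Matrix (Fin b) (Fin b) F)
    (M : Subgroup (Matrix.GeneralLinearGroup (Fin a × Fin b) F)) (u : Fin a → F) :
    Set (Matrix (Fin b) (Fin b) F) :=
  {η | SelfAdj J2 η ∧ InM M (XAm J1 u η)}

/-- `M` contains no transvection `≠ 1` whose centre is a pure tensor. -/
def NTp (J1 : Matrix (Fin a) (Fin a) F) (J2 : Matrix (Fin b) (Fin b) F)
    (M : Subgroup (Matrix.GeneralLinearGroup (Fin a × Fin b) F)) : Prop :=
  ∀ (u : Fin a → F) (w : Fin b → F) (c : F), u ≠ 0 → w ≠ 0 → c ≠ 0 →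
    ¬ InM M (tvm (JV J1 J2) (ten u w) c)

end Cfsg.Agent.Lib.Helper21.TS
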