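import Cfsg.Agent.Lib.Helper21.TS.Basic

/-!
# Project TS (S5666): API of `opm`, `XAm`, `XBm`, `InM`
-/

set_option autoImplicit false
set_option linter.unusedSectionVars false

namespace Cfsg.Agent.Lib.Helper21.TS

open Matrix
open scoped Kronecker
open Cfsg.Agent.Lib.helper7.TP

variable {ι : Type*} [Fintype ι] [DecidableEq ι] {a b : ℕ} {F : Type*} [Field F]

/-! ## `InM` -/

theorem InM_one (M : Subgroup (Matrix.GeneralLinearGroup ι F)) : InM M (1 : Matrix ι ι F) :=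
  ⟨1, M.one_mem, rfl⟩

theorem InM.mul {M : Subgroup (Matrix.GeneralLinearGroup ι F)} {X Y : Matrix ι ι F}
    (hX : InM M X) (hY : InM M Y) : InM M (X * Y) := by
  obtain ⟨g, hg, rfl⟩ := hX
  obtain ⟨h, hh, rfl⟩ := hY
  exact ⟨g * h, M.mul_mem hg hh, rfl⟩

theorem InM.conj {M : Subgroup (Matrix.GeneralLinearGroup ι F)} {X : Matrix ι ι F}
    (hX : InM M X) {g : Matrix.GeneralLinearGroup ι F} (hg : g ∈ M) :
    InM M ((g : Matrix ι ι F) * X * ((g⁻¹ : Matrix.GeneralLinearGroup ι F) : Matrix ι ι F)) := by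
  obtain ⟨h, hh, rfl⟩ := hX
  exact ⟨g * h * g⁻¹, M.mul_mem (M.mul_mem hg hh) (M.inv_mem hg), rfl⟩

theorem InM.of_mul_eq_one {M : Subgroup (Matrix.GeneralLinearGroup ι F)} {X Y : Matrix ι ι F}
    (hX : InM M X) (h : X * Y = 1) : InM M Y := by
  obtain ⟨g, hg, rfl⟩ := hX
  refine ⟨g⁻¹, M.inv_mem hg, ?_⟩
  calc ((g⁻¹ : Matrix.GeneralLinearGroup ι F) : Matrix ι ι F)
      = ((g⁻¹ : Matrix.GeneralLinearGroup ι F) : Matrix ι ι F) * ((g : Matrix ι ι F) * Y) := by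
        rw [h, mul_one]
    _ = Y := by rw [← mul_assoc, ← Units.val_mul, inv_mul_cancel, Units.val_one, one_mul]

theorem InM.mem {M : Subgroup (Matrix.GeneralLinearGroup ι F)} {g : Matrix.GeneralLinearGroup ι F}
    (h : InM M (g : Matrix ι ι F)) : g ∈ M := by
  obtain ⟨g', hg', h'⟩ := h
  have : g' = g := Units.ext h'
  rwa [this] at hg'

theorem InM_of_mem {M : Subgroup (Matrix.GeneralLinearGroup ι F)} {g : Matrix.GeneralLinearGroup ι F}
    (h : g ∈ M) : InM M (g : Matrix ι ι F) := ⟨g, h, rfl⟩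

/-! ## adjoints -/

theorem selfAdj_iff_bf (J η : Matrix ι ι F) :
    SelfAdj J η ↔ ∀ x y, bf J (η *ᵥ x) y = bf J x (η *ᵥ y) := by
  unfold SelfAdj
  constructor
  · intro h x y
    rw [bf_mulVec_left, bf_mulVec_right, h]
  · intro h
    apply bf_ext
    intro x y
    rw [← bf_mulVec_left, ← bf_mulVec_right, h]

theorem skewAdj_iff_bf (J ζ : Matrix ι ι F) :
    SkewAdj J ζ ↔ ∀ x y, bf J (ζ *ᵥ x) y = -bf J x (ζ *ᵥ y) := by
  unfold SkewAdj
  constructor
  · intro h x y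
    rw [bf_mulVec_left, bf_mulVec_right, h]
    simp only [bf, Matrix.neg_mulVec, dotProduct_neg]
  · intro h
    apply bf_ext
    intro x y
    rw [← bf_mulVec_left, h, bf_mulVec_right]
    simp only [bf, Matrix.neg_mulVec, dotProduct_neg]

theorem SelfAdj.add {J η η' : Matrix ι ι F} (h : SelfAdj J η) (h' : SelfAdj J η') : SelfAdj J (η + η') := by
  unfold SelfAdj at *
  rw [Matrix.transpose_add, Matrix.add_mul, Matrix.mul_add, h, h']

theorem SelfAdj.neg {J η : Matrix ι ι F} (h : SelfAdj J η) : SelfAdj J (-η) := by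
  unfold SelfAdj at *
  rw [Matrix.transpose_neg, Matrix.neg_mul, Matrix.mul_neg, h]

theorem SelfAdj.smul {J η : Matrix ι ι F} (h : SelfAdj J η) (c : F) : SelfAdj J (c • η) := by
  unfold SelfAdj at *
  rw [Matrix.transpose_smul, Matrix.smul_mul, Matrix.mul_smul, h]

theorem SelfAdj.sub {J η η' : Matrix ι ι F} (h : SelfAdj J η) (h' : SelfAdj J η') : SelfAdj J (η - η') := by
  rw [sub_eq_add_neg]
  exact h.add h'.neg

theorem selfAdj_one (J : Matrix ι ι F) : SelfAdj J 1 := by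
  unfold SelfAdj
  rw [Matrix.transpose_one, Matrix.one_mul, Matrix.mul_one]

theorem selfAdj_zero (J : Matrix ι ι F) : SelfAdj J 0 := by
  unfold SelfAdj
  rw [Matrix.transpose_zero, Matrix.zero_mul, Matrix.mul_zero]

/-- conjugation by an isometry preserves self-adjointness. -/
theorem SelfAdj.conj {J η : Matrix ι ι F} (h : SelfAdj J η) {β : Matrix.GeneralLinearGroup ι F}
    (hβ : β ∈ Iso J) :
    SelfAdj J ((β : Matrix ι ι F) * η * ((β⁻¹ : Matrix.GeneralLinearGroup ι F) : Matrix ι ι F)) := by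
  rw [selfAdj_iff_bf] at h ⊢
  have hβi : β⁻¹ ∈ Iso J := (Iso J).inv_mem hβ
  have h1 := (mem_Iso_iff_bf J β).mp hβ
  have hgi : ∀ y, (β : Matrix ι ι F) *ᵥ (((β⁻¹ : Matrix.GeneralLinearGroup ι F) : Matrix ι ι F) *ᵥ y) = y := by
    intro y
    rw [Matrix.mulVec_mulVec, ← Units.val_mul, mul_inv_cancel, Units.val_one, Matrix.one_mulVec]
  intro x y
  rw [← Matrix.mulVec_mulVec, ← Matrix.mulVec_mulVec, ← Matrix.mulVec_mulVec, ← Matrix.mulVec_mulVec]
  conv_lhs => rw [← hgi y]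
  conv_rhs => rw [← hgi x]
  rw [h1, h1, h]

/-! ## `opm` -/

theorem opm_apply (J : Matrix ι ι F) (v w : ι → F) (i j : ι) : opm J v w i j = v i * (w ᵥ* J) j := by
  rw [opm, Matrix.vecMulVec_apply]

theorem opm_mul_opm (J : Matrix ι ι F) (v w v' w' : ι → F) :
    opm J v w * opm J v' w' = bf J w v' • opm J v w' := by
  rw [Matrix.ext_iff_mulVec]
  intro x
  rw [← Matrix.mulVec_mulVec, opm_mulVec, opm_mulVec, bf_smul_right, Matrix.smul_mulVec, opm_mulVec,
    smul_smul, mul_comm]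

theorem opm_smul_left (J : Matrix ι ι F) (c : F) (v w : ι → F) : opm J (c • v) w = c • opm J v w := by
  rw [Matrix.ext_iff_mulVec]
  intro x
  rw [opm_mulVec, Matrix.smul_mulVec, opm_mulVec, smul_comm]

theorem opm_smul_right (J : Matrix ι ι F) (c : F) (v w : ι → F) : opm J v (c • w) = c • opm J v w := by
  rw [Matrix.ext_iff_mulVec]
  intro x
  rw [opm_mulVec, Matrix.smul_mulVec, opm_mulVec, bf_smul_left, smul_smul]

theorem opm_conj {J : Matrix ι ι F} (g : Matrix.GeneralLinearGroup ι F) (hg : g ∈ Iso J) (v w : ι → F) :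
    (g : Matrix ι ι F) * opm J v w * ((g⁻¹ : Matrix.GeneralLinearGroup ι F) : Matrix ι ι F) =
      opm J ((g : Matrix ι ι F) *ᵥ v) ((g : Matrix ι ι F) *ᵥ w) := by
  rw [Matrix.ext_iff_mulVec]
  intro x
  have hgi : ∀ y, (g : Matrix ι ι F) *ᵥ (((g⁻¹ : Matrix.GeneralLinearGroup ι F) : Matrix ι ι F) *ᵥ y) = y := by
    intro y
    rw [Matrix.mulVec_mulVec, ← Units.val_mul, mul_inv_cancel, Units.val_one, Matrix.one_mulVec]
  rw [← Matrix.mulVec_mulVec, ← Matrix.mulVec_mulVec, opm_mulVec, opm_mulVec, Matrix.mulVec_smul]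
  congr 1
  have := (mem_Iso_iff_bf J g).mp hg w (((g⁻¹ : Matrix.GeneralLinearGroup ι F) : Matrix ι ι F) *ᵥ x)
  rw [hgi] at this
  exact this.symm

theorem opm_selfAdj {J : Matrix ι ι F} (hJ : Jᵀ = J) (w : ι → F) : SelfAdj J (opm J w w) := by
  rw [selfAdj_iff_bf]
  intro x y
  rw [opm_mulVec, opm_mulVec, bf_smul_left, bf_smul_right, bf_symm hJ x w]
  ring

theorem opm_skewAdj {J : Matrix ι ι F} (hJ : Jᵀ = -J) (u : ι → F) : SkewAdj J (opm J u u) := by
  rw [skewAdj_iff_bf]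
  intro x y
  rw [opm_mulVec, opm_mulVec, bf_smul_left, bf_smul_right, bf_alt hJ x u]
  ring

theorem tvm_eq (J : Matrix ι ι F) (v : ι → F) (c : F) : tvm J v c = 1 + c • opm J v v := rfl

/-! ## tensors -/

theorem ten_vecMul_kron (A : Matrix (Fin a) (Fin a) F) (B : Matrix (Fin b) (Fin b) F)
    (u : Fin a → F) (w : Fin b → F) : ten u w ᵥ* (A ⊗ₖ B) = ten (u ᵥ* A) (w ᵥ* B) := by
  funext p
  simp only [Matrix.vecMul, dotProduct, ten, Matrix.kroneckerMap_apply, Fintype.sum_prod_type]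
  rw [Finset.sum_mul_sum]
  apply Finset.sum_congr rfl
  intro i _
  apply Finset.sum_congr rfl
  intro j _
  ring

theorem opm_kron (J1 : Matrix (Fin a) (Fin a) F) (J2 : Matrix (Fin b) (Fin b) F)
    (u u' : Fin a → F) (w w' : Fin b → F) :
    opm J1 u u' ⊗ₖ opm J2 w w' = opm (JV J1 J2) (ten u w) (ten u' w') := by
  ext ⟨i, j⟩ ⟨i', j'⟩
  rw [Matrix.kroneckerMap_apply, opm_apply, opm_apply, opm_apply, JV, ten_vecMul_kron]
  simp only [ten]
  ring

/-! ## `XAm` -/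

theorem XAm_zero (J1 : Matrix (Fin a) (Fin a) F) (u : Fin a → F) :
    XAm J1 u (0 : Matrix (Fin b) (Fin b) F) = 1 := by
  rw [XAm, Matrix.kronecker_zero, add_zero]

theorem XAm_mul (J1 : Matrix (Fin a) (Fin a) F) (u : Fin a → F) (hu : bf J1 u u = 0)
    (η η' : Matrix (Fin b) (Fin b) F) : XAm J1 u η * XAm J1 u η' = XAm J1 u (η + η') := by
  have hN : opm J1 u u * opm J1 u u = 0 := by rw [opm_mul_opm, hu, zero_smul]
  rw [XAm, XAm, XAm, Matrix.add_mul, Matrix.mul_add, Matrix.mul_add, Matrix.one_mul, Matrix.mul_one,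
    Matrix.one_mul, ← Matrix.mul_kronecker_mul, hN, Matrix.zero_kronecker, add_zero, Matrix.kronecker_add]
  abel

/-- `X_u(η)` as an element of `GL`. -/
noncomputable def XAG (J1 : Matrix (Fin a) (Fin a) F) (u : Fin a → F) (hu : bf J1 u u = 0)
    (η : Matrix (Fin b) (Fin b) F) : Matrix.GeneralLinearGroup (Fin a × Fin b) F :=
  ⟨XAm J1 u η, XAm J1 u (-η), by rw [XAm_mul J1 u hu, add_neg_cancel, XAm_zero],
    by rw [XAm_mul J1 u hu, neg_add_cancel, XAm_zero]⟩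

@[simp] theorem XAG_coe (J1 : Matrix (Fin a) (Fin a) F) (u : Fin a → F) (hu : bf J1 u u = 0)
    (η : Matrix (Fin b) (Fin b) F) :
    ((XAG J1 u hu η : Matrix.GeneralLinearGroup (Fin a × Fin b) F) :
      Matrix (Fin a × Fin b) (Fin a × Fin b) F) = XAm J1 u η := rfl

theorem XAG_mem_SpV {J1 : Matrix (Fin a) (Fin a) F} {J2 : Matrix (Fin b) (Fin b) F} (hJ1 : J1ᵀ = -J1)
    (u : Fin a → F) (hu : bf J1 u u = 0) {η : Matrix (Fin b) (Fin b) F} (hη : SelfAdj J2 η) :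
    XAG J1 u hu η ∈ SpV J1 J2 := by
  have hN : opm J1 u u * opm J1 u u = 0 := by rw [opm_mul_opm, hu, zero_smul]
  have hsk : (opm J1 u u)ᵀ * J1 = -(J1 * opm J1 u u) := opm_skewAdj hJ1 u
  unfold SelfAdj at hη
  rw [SpV, mem_Iso, XAG_coe, XAm, JV, Matrix.transpose_add, Matrix.transpose_one,
    ← Matrix.kroneckerMap_transpose, Matrix.add_mul, Matrix.one_mul, Matrix.add_mul, Matrix.mul_add,
    Matrix.mul_add, Matrix.mul_one, Matrix.mul_one, ← Matrix.mul_kronecker_mul, ← Matrix.mul_kronecker_mul,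
    ← Matrix.mul_kronecker_mul, hsk, hη, Matrix.neg_mul, Matrix.mul_assoc J1, hN, Matrix.mul_zero, neg_zero,
    Matrix.zero_kronecker, add_zero]
  have hneg : (-(J1 * opm J1 u u)) ⊗ₖ (J2 * η) = -((J1 * opm J1 u u) ⊗ₖ (J2 * η)) := by
    rw [← neg_one_smul F (J1 * opm J1 u u), Matrix.smul_kronecker, neg_one_smul]
  rw [hneg]
  abel

/-- the action on pure tensors. -/
theorem XAm_mulVec_ten (J1 : Matrix (Fin a) (Fin a) F) (u : Fin a → F) (η : Matrix (Fin b) (Fin b) F)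
    (u' : Fin a → F) (w : Fin b → F) :
    XAm J1 u η *ᵥ ten u' w = ten u' w + bf J1 u u' • ten u (η *ᵥ w) := by
  rw [XAm, Matrix.add_mulVec, Matrix.one_mulVec, kron_mulVec_ten, opm_mulVec, ten_smul_left]

/-- conjugation by `1 ⊗ β`. -/
theorem XAm_conjB (J1 : Matrix (Fin a) (Fin a) F) (u : Fin a → F) (η : Matrix (Fin b) (Fin b) F)
    (β : Matrix.GeneralLinearGroup (Fin b) F) :
    ((kronG (1 : Matrix.GeneralLinearGroup (Fin a) F) β : Matrix.GeneralLinearGroup (Fin a × Fin b) F) :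
        Matrix (Fin a × Fin b) (Fin a × Fin b) F) * XAm J1 u η *
      (((kronG (1 : Matrix.GeneralLinearGroup (Fin a) F) β)⁻¹ : Matrix.GeneralLinearGroup (Fin a × Fin b) F) :
        Matrix (Fin a × Fin b) (Fin a × Fin b) F) =
      XAm J1 u ((β : Matrix (Fin b) (Fin b) F) * η *
        ((β⁻¹ : Matrix.GeneralLinearGroup (Fin b) F) : Matrix (Fin b) (Fin b) F)) := by
  have hinv : (((kronG (1 : Matrix.GeneralLinearGroup (Fin a) F) β)⁻¹ :
      Matrix.GeneralLinearGroup (Fin a × Fin b) F) : Matrix (Fin a × Fin b) (Fin a × Fin b) F) =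
      (1 : Matrix (Fin a) (Fin a) F) ⊗ₖ ((β⁻¹ : Matrix.GeneralLinearGroup (Fin b) F) : Matrix (Fin b) (Fin b) F) := by
    show ((1⁻¹ : Matrix.GeneralLinearGroup (Fin a) F) : Matrix (Fin a) (Fin a) F) ⊗ₖ _ = _
    rw [inv_one, Units.val_one]
  have hββ : (β : Matrix (Fin b) (Fin b) F) *
      ((β⁻¹ : Matrix.GeneralLinearGroup (Fin b) F) : Matrix (Fin b) (Fin b) F) = 1 := by
    rw [← Units.val_mul, mul_inv_cancel, Units.val_one]
  rw [hinv, kronG_coe, Units.val_one, XAm, XAm, Matrix.mul_add, Matrix.add_mul, Matrix.mul_one,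
    ← Matrix.mul_kronecker_mul, ← Matrix.mul_kronecker_mul, ← Matrix.mul_kronecker_mul, Matrix.one_mul,
    Matrix.mul_one, Matrix.one_mul, hββ, Matrix.one_kronecker_one]

/-- conjugation by `α ⊗ 1`, `α` an isometry. -/
theorem XAm_conjA {J1 : Matrix (Fin a) (Fin a) F} (u : Fin a → F) (η : Matrix (Fin b) (Fin b) F)
    (α : Matrix.GeneralLinearGroup (Fin a) F) (hα : α ∈ Iso J1) :
    ((kronG α (1 : Matrix.GeneralLinearGroup (Fin b) F) : Matrix.GeneralLinearGroup (Fin a × Fin b) F) :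
        Matrix (Fin a × Fin b) (Fin a × Fin b) F) * XAm J1 u η *
      (((kronG α (1 : Matrix.GeneralLinearGroup (Fin b) F))⁻¹ : Matrix.GeneralLinearGroup (Fin a × Fin b) F) :
        Matrix (Fin a × Fin b) (Fin a × Fin b) F) =
      XAm J1 ((α : Matrix (Fin a) (Fin a) F) *ᵥ u) η := by
  have hinv : (((kronG α (1 : Matrix.GeneralLinearGroup (Fin b) F))⁻¹ :
      Matrix.GeneralLinearGroup (Fin a × Fin b) F) : Matrix (Fin a × Fin b) (Fin a × Fin b) F) =
      ((α⁻¹ : Matrix.GeneralLinearGroup (Fin a) F) : Matrix (Fin a) (Fin a) F) ⊗ₖ (1 : Matrix (Fin b) (Fin b) F) := by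
    show _ ⊗ₖ ((1⁻¹ : Matrix.GeneralLinearGroup (Fin b) F) : Matrix (Fin b) (Fin b) F) = _
    rw [inv_one, Units.val_one]
  have hαα : (α : Matrix (Fin a) (Fin a) F) *
      ((α⁻¹ : Matrix.GeneralLinearGroup (Fin a) F) : Matrix (Fin a) (Fin a) F) = 1 := by
    rw [← Units.val_mul, mul_inv_cancel, Units.val_one]
  rw [hinv, kronG_coe, Units.val_one, XAm, XAm, Matrix.mul_add, Matrix.add_mul, Matrix.mul_one,
    ← Matrix.mul_kronecker_mul, ← Matrix.mul_kronecker_mul, ← Matrix.mul_kronecker_mul, Matrix.one_mul,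
    Matrix.mul_one, Matrix.one_mul, hαα, Matrix.one_kronecker_one, opm_conj α hα]

theorem XAm_smul_left (J1 : Matrix (Fin a) (Fin a) F) (c : F) (u : Fin a → F) (η : Matrix (Fin b) (Fin b) F) :
    XAm J1 (c • u) η = XAm J1 u ((c * c) • η) := by
  rw [XAm, XAm, opm_smul_left, opm_smul_right, smul_smul, Matrix.smul_kronecker, Matrix.kronecker_smul]

/-- `X_u(c • w w^*)` is the transvection with centre `u ⊗ w`. -/
theorem XAm_tv (J1 : Matrix (Fin a) (Fin a) F) (J2 : Matrix (Fin b) (Fin b) F) (u : Fin a → F)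
    (w : Fin b → F) (c : F) : XAm J1 u (c • opm J2 w w) = tvm (JV J1 J2) (ten u w) c := by
  rw [XAm, tvm, Matrix.kronecker_smul, opm_kron]

/-- `X_u(c • 1) = t_u(c) ⊗ 1`. -/
theorem XAm_scalar (J1 : Matrix (Fin a) (Fin a) F) (u : Fin a → F) (c : F) :
    XAm J1 u (c • (1 : Matrix (Fin b) (Fin b) F)) = tvm J1 u c ⊗ₖ (1 : Matrix (Fin b) (Fin b) F) := by
  rw [XAm, tvm, Matrix.add_kronecker, Matrix.one_kronecker_one, Matrix.kronecker_smul, Matrix.smul_kronecker]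

/-! ## `XBm` -/

theorem XBm_zero (J2 : Matrix (Fin b) (Fin b) F) (w : Fin b → F) :
    XBm J2 (0 : Matrix (Fin a) (Fin a) F) w = 1 := by
  rw [XBm, Matrix.zero_kronecker, add_zero]

theorem XBm_mul (J2 : Matrix (Fin b) (Fin b) F) (w : Fin b → F) (hw : bf J2 w w = 0)
    (ζ ζ' : Matrix (Fin a) (Fin a) F) : XBm J2 ζ w * XBm J2 ζ' w = XBm J2 (ζ + ζ') w := by
  have hN : opm J2 w w * opm J2 w w = 0 := by rw [opm_mul_opm, hw, zero_smul]
  rw [XBm, XBm, XBm, Matrix.add_mul, Matrix.mul_add, Matrix.mul_add, Matrix.one_mul, Matrix.mul_one,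
    Matrix.one_mul, ← Matrix.mul_kronecker_mul, hN, Matrix.kronecker_zero, add_zero, Matrix.add_kronecker]
  abel

/-- conjugation of `1 + ζ ⊗ w w^*` by `α ⊗ 1`. -/
theorem XBm_conjA (J2 : Matrix (Fin b) (Fin b) F) (ζ : Matrix (Fin a) (Fin a) F) (w : Fin b → F)
    (α : Matrix.GeneralLinearGroup (Fin a) F) :
    ((kronG α (1 : Matrix.GeneralLinearGroup (Fin b) F) : Matrix.GeneralLinearGroup (Fin a × Fin b) F) :
        Matrix (Fin a × Fin b) (Fin a × Fin b) F) * XBm J2 ζ w *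
      (((kronG α (1 : Matrix.GeneralLinearGroup (Fin b) F))⁻¹ : Matrix.GeneralLinearGroup (Fin a × Fin b) F) :
        Matrix (Fin a × Fin b) (Fin a × Fin b) F) =
      XBm J2 ((α : Matrix (Fin a) (Fin a) F) * ζ *
        ((α⁻¹ : Matrix.GeneralLinearGroup (Fin a) F) : Matrix (Fin a) (Fin a) F)) w := by
  have hinv : (((kronG α (1 : Matrix.GeneralLinearGroup (Fin b) F))⁻¹ :
      Matrix.GeneralLinearGroup (Fin a × Fin b) F) : Matrix (Fin a × Fin b) (Fin a × Fin b) F) =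
      ((α⁻¹ : Matrix.GeneralLinearGroup (Fin a) F) : Matrix (Fin a) (Fin a) F) ⊗ₖ (1 : Matrix (Fin b) (Fin b) F) := by
    show _ ⊗ₖ ((1⁻¹ : Matrix.GeneralLinearGroup (Fin b) F) : Matrix (Fin b) (Fin b) F) = _
    rw [inv_one, Units.val_one]
  have hαα : (α : Matrix (Fin a) (Fin a) F) *
      ((α⁻¹ : Matrix.GeneralLinearGroup (Fin a) F) : Matrix (Fin a) (Fin a) F) = 1 := by
    rw [← Units.val_mul, mul_inv_cancel, Units.val_one]
  rw [hinv, kronG_coe, Units.val_one, XBm, XBm, Matrix.mul_add, Matrix.add_mul, Matrix.mul_one,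
    ← Matrix.mul_kronecker_mul, ← Matrix.mul_kronecker_mul, ← Matrix.mul_kronecker_mul, Matrix.one_mul,
    Matrix.mul_one, Matrix.one_mul, hαα, Matrix.one_kronecker_one]

end Cfsg.Agent.Lib.Helper21.TS
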